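import Cfsg.Agent.ReeDegree.Coords
import Cfsg.Agent.ReeG2Sylow.Centralizer

/-!
The small Ree groups `²G₂(q)`, `q > 3`, are simple: a normal subgroup lies in the Borel subgroup, and
is then trivial, or contains an element of the big cell, and then together with `U` generates the
group, so contains the torus and with it `U`.
-/

set_option autoImplicit false
set_option linter.unusedSectionVars false

namespace CfsgLib.ReeDegree

open Cfsg.Lie CfsgLib.Chevalley CfsgLib.ReeG2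
open scoped commutatorElement

variable {K : Type*} [Field K] [CharP K 3] {m : ℕ}

section Finite

variable [Finite K] (hK : Nat.card K = 3 ^ (2 * m + 1))
include hK

/-- The subgroup `U`. -/
def UG : Subgroup ↥(Tw K m) where
  carrier := {g | ∃ t u v : K, g = uG m t u v}
  one_mem' := ⟨0, 0, 0, (uG_zero hK).symm⟩
  mul_mem' := by
    rintro _ _ ⟨t, u, v, rfl⟩ ⟨t', u', v', rfl⟩
    exact ⟨_, _, _, uG_mul hK t u v t' u' v'⟩
  inv_mem' := by
    rintro _ ⟨t, u, v, rfl⟩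
    refine ⟨-t, -u - theta m t ^ 3 * t, -v - t * u - theta m t ^ 3 * (t * t + t ^ 2), ?_⟩
    refine inv_eq_of_mul_eq_one_right ?_
    rw [uG_mul hK, ← uG_zero hK]
    congr 1
    · ring
    · rw [theta_neg]; ring
    · rw [theta_neg]; ring

theorem hG_mem_diag (B : Kˣ) :
    ((hG hK B : ↥(Tw K m)) : GL I K) ∈ chevG2.diagonalSubgroup K := hh_mem_diag _ _

omit hK [Finite K] in
theorem wG_mem_monomial : ((wG (K := K) m : ↥(Tw K m)) : GL I K) ∈ chevG2.monomialSubgroup K :=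
  nn_mem_monomial 1

/-- A normal subgroup inside the Borel subgroup is trivial. -/
theorem eq_bot_of_le_borel (N : Subgroup ↥(Tw K m)) [N.Normal]
    (h : ∀ n ∈ N, (n : GL I K) ∈ chevG2.borelSubgroup K) : N = ⊥ := by
  have hT : ∀ n ∈ N, (n : GL I K) ∈ chevG2.diagonalSubgroup K := by
    intro n hn
    rcases tw_form hK n.2 with ⟨-, t, a, b, B, e⟩ | ⟨hb, -⟩
    swap
    · exact absurd (h n hn) hb
    have he : n = uG m t a b * hG hK B := Subtype.ext e
    have hconj := h _ ((inferInstance : N.Normal).conj_mem n hn (wG m))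
    have hd : ((wG (K := K) m * hG hK B * (wG m)⁻¹ : ↥(Tw K m)) : GL I K) ∈
        chevG2.diagonalSubgroup K :=
      (Subgroup.mem_normalizer_iff.1
        (Chevalley.monomial_le_normalizer goodW (wG_mem_monomial (K := K) (m := m))) _).1
        (hG_mem_diag hK B)
    have hu : ((wG (K := K) m * uG m t a b * (wG m)⁻¹ : ↥(Tw K m)) : GL I K) ∈
        chevG2.borelSubgroup K := by
      rw [show wG (K := K) m * uG m t a b * (wG m)⁻¹ =
        (wG m * n * (wG m)⁻¹) * (wG m * hG hK B * (wG m)⁻¹)⁻¹ by rw [he]; group,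
        Subgroup.coe_mul, Subgroup.coe_inv]
      exact mul_mem hconj (inv_mem (diag_le_borel _ hd))
    have h1 : (uG m t a b : ↥(Tw K m)) = 1 :=
      Subtype.ext (ReeG2Sylow.nn_conj_eq_one (m := m) (t := 1) (uElt_mem_pos _ _ _ _ _ _) hu)
    rw [he, h1, one_mul]
    exact hG_mem_diag hK B
  rw [eq_bot_iff]
  intro n hn
  obtain ⟨B, e⟩ := (diag_tw_iff hK).1 (Subgroup.mem_inf.2 ⟨hT n hn, n.2⟩)
  have hn' : n = hG hK B := Subtype.ext e.symm
  have h2 := hT _ ((inferInstance : N.Normal).conj_mem n hn (uG m 1 0 0))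
  have key : (uG m 1 0 0 * (hG hK B * (uG m 1 0 0)⁻¹ * (hG hK B)⁻¹) : ↥(Tw K m)) = 1 := by
    have hU : (uG m 1 0 0 * (hG hK B * (uG m 1 0 0)⁻¹ * (hG hK B)⁻¹) : ↥(Tw K m)) ∈ UG hK := by
      refine mul_mem ⟨_, _, _, rfl⟩ ?_
      rw [show hG hK B * (uG m 1 0 0)⁻¹ * (hG hK B)⁻¹ =
        (hG hK B * uG m 1 0 0 * (hG hK B)⁻¹)⁻¹ by group]
      exact inv_mem ⟨_, _, _, hG_conj hK B 1 0 0⟩
    obtain ⟨t, u, v, ht⟩ := hU
    refine Subtype.ext (Subgroup.mem_bot.1 ?_)
    rw [← pos_inf_diag (F := K) goodW]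
    refine Subgroup.mem_inf.2 ⟨ht ▸ uElt_mem_pos _ _ _ _ _ _, ?_⟩
    rw [show uG m 1 0 0 * (hG hK B * (uG m 1 0 0)⁻¹ * (hG hK B)⁻¹) =
      (uG m 1 0 0 * n * (uG m 1 0 0)⁻¹) * (hG hK B)⁻¹ by rw [hn']; group, Subgroup.coe_mul,
      Subgroup.coe_inv]
    exact mul_mem h2 (inv_mem (hG_mem_diag hK B))
  have hc : hG hK B * uG m 1 0 0 * (hG hK B)⁻¹ = uG m 1 0 0 := by
    rw [mul_eq_one_iff_inv_eq] at key
    calc hG hK B * uG m 1 0 0 * (hG hK B)⁻¹
        = (hG hK B * (uG m 1 0 0)⁻¹ * (hG hK B)⁻¹)⁻¹ := by group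
      _ = ((uG m 1 0 0)⁻¹)⁻¹ := by rw [← key]
      _ = uG m 1 0 0 := inv_inv _
  rw [hG_conj] at hc
  have hB : B = 1 := Units.ext (by simpa using (uG_inj hc).1)
  rw [hn', hB, hG_one, Subgroup.mem_bot]

/-- The negative elements are conjugates of the positive ones under the reflection. -/
theorem exists_conj_of_neg {g : ↥(Tw K m)} (hy : (g : GL I K) ∈ chevG2.negUnipotent K) :
    ∃ x ∈ UG hK, g = wG m * x * (wG m)⁻¹ := by
  have hall : ∀ s : R0, (s : ℕ) < half chevG2 → half chevG2 ≤ (revPerm⁻¹ s : ℕ) := by decide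
  rw [negUnipotent_eq_rootGen good_chevG2] at hy
  have hpos := ((monBy_nn (K := K) m 1).inv).conj_rootGen (T := posSet chevG2)
    (fun r hr => hall r hr) hy
  rw [inv_inv, ← posUnipotent_eq_rootGen good_chevG2] at hpos
  obtain ⟨t', u', v', he⟩ := (pos_tw_iff hK).1 (Subgroup.mem_inf.2
    ⟨hpos, mul_mem (mul_mem (inv_mem (nn_mem_tw m 1)) g.2) (nn_mem_tw m 1)⟩)
  refine ⟨uG m t' u' v', ⟨_, _, _, rfl⟩, Subtype.ext ?_⟩
  rw [Subgroup.coe_mul, Subgroup.coe_mul, Subgroup.coe_inv]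
  show (g : GL I K) = ((nn m 1 : ↥(GG K)) : GL I K) * ((wordU m t' u' v' : ↥(GG K)) : GL I K) *
    ((nn m 1 : ↥(GG K)) : GL I K)⁻¹
  rw [he]
  group

/-- A subgroup containing `U` and its conjugate under the reflection is everything. -/
theorem eq_top_of_le {M : Subgroup ↥(Tw K m)} (hUM : UG hK ≤ M)
    (hwM : ∀ x ∈ UG hK, wG m * x * (wG m)⁻¹ ∈ M) : M = ⊤ := by
  rw [eq_top_iff]
  intro g _
  have hle : Tw K m ≤ M.map (Tw K m).subtype := by
    refine (Subgroup.closure_le _).2 ?_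
    rintro x ⟨w, ⟨t, u, v, rfl | rfl⟩, hx⟩
    · exact ⟨uG m t u v, hUM ⟨_, _, _, rfl⟩, Units.ext ((coe_wordU m t u v).trans hx.symm)⟩
    · obtain ⟨y, hy, hye⟩ := exists_conj_of_neg hK (m := m)
        (g := ⟨_, nu_wordU_mem_tw m t u v⟩) (nu_wordU_mem_neg m t u v)
      exact ⟨_, hwM y hy, Units.ext (((congrArg (fun z : ↥(Tw K m) =>
        ((z : GL I K) : Matrix I I K)) hye).symm.trans (coe_nu_wordU m t u v)).trans hx.symm)⟩
  obtain ⟨g', hg', he⟩ := hle g.2
  obtain rfl : g' = g := Subtype.ext he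
  exact hg'

/-- A normal subgroup not in the Borel subgroup generates the group with `U`. -/
theorem sup_eq_top (N : Subgroup ↥(Tw K m)) [hN : N.Normal] {n : ↥(Tw K m)} (hn : n ∈ N)
    (hnb : (n : GL I K) ∉ chevG2.borelSubgroup K) : UG hK ⊔ N = ⊤ := by
  rcases form hK n with ⟨h, -⟩ | ⟨t, a, b, B, t', a', b', e⟩
  · exact absurd h hnb
  have hUM : UG hK ≤ UG hK ⊔ N := le_sup_left
  have hNM : N ≤ UG hK ⊔ N := le_sup_right
  have hTM : ∀ C : Kˣ, UG hK ⊔ N ≤ (UG hK ⊔ N).comap (MulAut.conj (hG hK C)).toMonoidHom := by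
    intro C
    refine sup_le ?_ fun x hx => hNM (hN.conj_mem x hx _)
    rintro _ ⟨t, u, v, rfl⟩
    exact hUM ⟨_, _, _, hG_conj hK C t u v⟩
  refine eq_top_of_le hK hUM fun x hx => ?_
  have hu : uG m t a b ∈ UG hK := ⟨_, _, _, rfl⟩
  have hu' : uG m t' a' b' ∈ UG hK := ⟨_, _, _, rfl⟩
  have hi : hG hK B⁻¹ = (hG hK B)⁻¹ := map_inv (hHom hK) B
  generalize uG m t a b = p at e hu
  generalize uG m t' a' b' = p' at e hu'
  have h := hTM B⁻¹ (mul_mem (mul_mem (mul_mem (inv_mem (hUM hu)) (hNM hn))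
    (mul_mem (mul_mem (inv_mem (hUM hu')) (hUM hx)) (hUM hu'))) (mul_mem (inv_mem (hNM hn))
      (hUM hu)))
  rw [Subgroup.mem_comap, MulEquiv.coe_toMonoidHom, MulAut.conj_apply, hi, e] at h
  generalize hG hK B = d at h
  convert h using 1
  group

theorem card_UG : Nat.card (UG hK) = (3 ^ (2 * m + 1)) ^ 3 := by
  let f : K × K × K → UG hK := fun p => ⟨uG m p.1 p.2.1 p.2.2, ⟨p.1, p.2.1, p.2.2, rfl⟩⟩
  have hf : Function.Bijective f := by
    refine ⟨fun p p' h => ?_, fun x => ?_⟩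
    · have h' : uG m p.1 p.2.1 p.2.2 = uG m p'.1 p'.2.1 p'.2.2 := by
        simp only [f] at h
        exact Subtype.mk.inj h
      obtain ⟨h1, h2, h3⟩ := uG_inj h'
      exact Prod.ext h1 (Prod.ext h2 h3)
    · obtain ⟨t, u, v, hx⟩ := x.2
      refine ⟨(t, u, v), ?_⟩
      exact Subtype.ext (by simp only [f]; rw [hx])
  rw [← Nat.card_eq_of_bijective f hf, Nat.card_prod, Nat.card_prod, hK]
  ring

/-- A homomorphism killing the torus kills `U`. -/
theorem map_U_eq_one (hm : 1 ≤ m) {H : Type*} [Group H] (π : ↥(Tw K m) →* H)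
    (hT : ∀ C : Kˣ, π (hG hK C) = 1) (t u v : K) : π (uG m t u v) = 1 := by
  have hconj : ∀ (C : Kˣ) (t u v : K), π (uG m ((C : K) * t) (theta m (C : K) ^ 3 * C * u)
      (theta m (C : K) ^ 3 * (C : K) ^ 2 * v)) = π (uG m t u v) := by
    intro C t u v
    rw [← hG_conj hK, map_mul, map_mul, map_inv, hT, one_mul, inv_one, mul_one]
  have hneg : ∀ t u v : K, π (uG m (-t) u (-v)) = π (uG m t u v) := by
    intro t u v
    have h := hconj (-1) t u v
    rwa [show (((-1 : Kˣ)) : K) = -1 by simp, theta_neg, theta_one,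
      show ((-1 : K)) * t = -t by ring, show (-1 : K) ^ 3 * -1 * u = u by ring,
      show (-1 : K) ^ 3 * (-1) ^ 2 * v = -v by ring] at h
  have hZ : ∀ v : K, π (uG m 0 0 v) = 1 := by
    intro v
    have h := hneg 0 0 v
    rw [neg_zero] at h
    have h2 : π (uG m 0 0 v) * π (uG m 0 0 v) = 1 := by
      nth_rw 1 [← h]
      rw [← map_mul, uG_mul_Z hK, neg_add_cancel, uG_zero hK, map_one]
    have h3 : π (uG m 0 0 v) * π (uG m 0 0 v) * π (uG m 0 0 v) = 1 := by
      rw [← map_mul, uG_mul_Z hK, ← map_mul, uG_mul_Z hK,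
        show v + v + v = (3 : K) * v by ring, three_eq, zero_mul, uG_zero hK, map_one]
    rwa [h2, one_mul] at h3
  have hY : ∀ u : K, π (uG m 0 u 0) = 1 := by
    obtain ⟨C, hC⟩ := exists_u_scale_ne_one hK hm
    intro u
    have hc : theta m (C : K) ^ 3 * C - 1 ≠ 0 := sub_ne_zero.2 hC
    have h := hconj C 0 (u / (theta m (C : K) ^ 3 * C - 1)) 0
    generalize theta m (C : K) ^ 3 * (C : K) = c at hc h
    rw [mul_zero, mul_zero] at h
    have e1 : uG m 0 (c * (u / (c - 1))) 0 = uG m 0 u 0 * uG m 0 (u / (c - 1)) 0 := by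
      rw [uG_mul_U1 hK, add_zero]
      congr 1
      field_simp
      ring
    rw [e1, map_mul, mul_eq_right] at h
    exact h
  have hX : π (uG m t 0 0) = 1 := by
    have h2 : uG m t 0 0 * uG m t 0 0 = uG m (-t) 0 0 * uG m 0 (-(theta m t ^ 3 * t)) 0 := by
      rw [uG_mul hK, uG_mul hK]
      congr 1
      · linear_combination t * three_eq (K := K)
      · simp [theta_zero]
      · simp [theta_zero]
        ring_nf
        simp
    have h3 := congrArg π h2
    rw [map_mul, map_mul, hY, mul_one] at h3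
    have h4 := hneg t 0 0
    rw [neg_zero] at h4
    rw [h4] at h3
    exact mul_eq_left.1 h3
  have : uG m t u v = uG m t 0 0 * uG m 0 u 0 * uG m 0 0 v := by
    rw [uG_mul hK, uG_mul_Z hK]
    simp [theta_zero]
  rw [this, map_mul, map_mul, hX, hY, hZ, one_mul, one_mul]

/-- A normal subgroup is trivial or everything. -/
theorem eq_bot_or_top (hm : 1 ≤ m) (N : Subgroup ↥(Tw K m)) [N.Normal] : N = ⊥ ∨ N = ⊤ := by
  by_cases hb : ∀ n ∈ N, (n : GL I K) ∈ chevG2.borelSubgroup K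
  · exact Or.inl (eq_bot_of_le_borel hK N hb)
  right
  simp only [not_forall] at hb
  obtain ⟨n, hn, hnb⟩ := hb
  have hMtop := sup_eq_top hK N hn hnb
  let π := QuotientGroup.mk' N
  have hπ : ∀ g : ↥(Tw K m), ∃ x ∈ UG hK, π g = π x := by
    intro g
    have hg : π g ∈ (UG hK ⊔ N).map π := ⟨g, by rw [hMtop]; exact Subgroup.mem_top g, rfl⟩
    rw [Subgroup.map_sup, show N.map π = ⊥ by
      rw [Subgroup.map_eq_bot_iff, QuotientGroup.ker_mk'], sup_bot_eq] at hg
    obtain ⟨x, hx, hxe⟩ := hg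
    exact ⟨x, hx, hxe.symm⟩
  have hTN : ∀ C : Kˣ, π (hG hK C) = 1 := by
    intro C
    obtain ⟨x, hx, hxe⟩ := hπ (hG hK C)
    have h1 : π (hG hK C) ^ ((3 ^ (2 * m + 1)) ^ 3) = 1 := by
      rw [hxe, ← map_pow, ← card_UG hK]
      have := congrArg Subtype.val (pow_card_eq_one' (x := (⟨x, hx⟩ : UG hK)))
      rw [Subgroup.coe_pow] at this
      rw [this, Subgroup.coe_one, map_one]
    have h2 : π (hG hK C) ^ (3 ^ (2 * m + 1) - 1) = 1 := by
      rw [show π (hG hK C) = (π.comp (hHom hK)) C from rfl, ← map_pow, ← natCard_units_eq hK,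
        pow_card_eq_one', map_one]
    have hcop : Nat.Coprime (3 ^ (2 * m + 1)) (3 ^ (2 * m + 1) - 1) :=
      (Nat.coprime_self_sub_right (Nat.one_le_iff_ne_zero.2 (by positivity))).2
        (Nat.coprime_one_right _)
    have := pow_gcd_eq_one.2 ⟨h1, h2⟩
    rwa [hcop.pow_left 3, pow_one] at this
  rw [eq_top_iff]
  intro g _
  obtain ⟨x, ⟨t, u, v, rfl⟩, hxe⟩ := hπ g
  rw [map_U_eq_one hK hm π hTN] at hxe
  exact (QuotientGroup.eq_one_iff g).1 hxe

theorem not_comm : ¬ IsMulCommutative ↥(Tw K m) := by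
  intro h
  have := uG_mul_U1 hK (m := m) (0 : K) 0 0 0
  have h1 := uG_conj_t hK (m := m) (1 : K) 1 0
  rw [h.is_comm.comm (uG m 1 0 0) (uG m 0 1 0), mul_inv_cancel_right] at h1
  simpa using (uG_inj h1).2.2

/-- Simplicity. -/
theorem isSimpleGroup (hm : 1 ≤ m) : IsSimpleGroup ↥(Tw K m) := by
  have : Nontrivial ↥(Tw K m) := ⟨⟨uG m 0 0 1, 1, fun h => one_ne_zero (α := K)
    (uG_inj (h.trans (uG_zero hK).symm)).2.2⟩⟩
  exact ⟨fun N hN => haveI := hN; eq_bot_or_top hK hm N⟩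

theorem perfect (hm : 1 ≤ m) : commutator ↥(Tw K m) = ⊤ := by
  refine (eq_bot_or_top hK hm _).resolve_left fun h => not_comm hK ⟨⟨fun a b => ?_⟩⟩
  have : ⁅a, b⁆ ∈ commutator ↥(Tw K m) :=
    Subgroup.commutator_mem_commutator (Subgroup.mem_top a) (Subgroup.mem_top b)
  rw [h, Subgroup.mem_bot] at this
  exact commutatorElement_eq_one_iff_mul_comm.1 this

end Finite

end CfsgLib.ReeDegree
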