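import Cfsg.Agent.ReeDegree.Simple
import Cfsg.Agent.ReeG2Sylow.Twisted
import Cfsg.Agent.Characters.RepBasic
import Cfsg.Agent.PRational.Basic

/-!
Every irreducible complex representation of degree `k ≥ 2` of `²G₂(q)`, `q > 3`, has `k ≥ q² - q + 1`.

The centre `Z` of `U` has one non-trivial orbit under the torus, so the multiplicity of a non-trivial
character of `Z` is a multiple of `q - 1`; averaging over `{(0, u, v)}` and `{(0, u, 0)}` makes it a
multiple of `q` as well. If `k = q (q - 1)`, then `Z` has no fixed vector, so the central involution of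
the torus has trace zero, so all involutions have, and `8 ∣ k` by a Sylow 2-subgroup, which is false.
-/

set_option autoImplicit false
set_option linter.unusedSectionVars false
set_option linter.unusedVariables false
set_option linter.style.haveILetI false

namespace CfsgLib.ReeDegree

open Cfsg.Lie CfsgLib.Chevalley CfsgLib.ReeG2
open Module

section General

variable {V : Type*} [AddCommGroup V] [Module ℂ V] [FiniteDimensional ℂ V]

/-- The sum of a character is the group order times the dimension of the fixed space. -/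
theorem sum_char {A : Type*} [Group A] [Fintype A] (σ : Representation ℂ A V) :
    ∑ a : A, σ.character a = (Fintype.card A : ℂ) * finrank ℂ σ.invariants := by
  letI : Invertible (Nat.card A : ℂ) := invertibleOfNonzero (Nat.cast_ne_zero.2 Nat.card_pos.ne')
  rw [← σ.card_inv_mul_sum_char_eq_finrank, Nat.card_eq_fintype_card,
    mul_inv_cancel_left₀ (Nat.cast_ne_zero.2 Fintype.card_ne_zero)]

/-- Without fixed vectors the group sum acts as zero. -/
theorem sum_eq_zero {A : Type*} [Group A] [Fintype A] (σ : Representation ℂ A V)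
    (h : finrank ℂ σ.invariants = 0) : ∑ a : A, σ a = 0 := by
  letI : Invertible (Fintype.card A : ℂ) :=
    invertibleOfNonzero (Nat.cast_ne_zero.2 Fintype.card_ne_zero)
  have havg : σ.averageMap = 0 := LinearMap.ext fun v => by
    have := σ.isProj_averageMap.map_mem v
    rwa [Submodule.finrank_eq_zero.1 h, Submodule.mem_bot] at this
  simp only [Representation.averageMap, GroupAlgebra.average, map_smul, map_sum,
    MonoidAlgebra.of_apply, Representation.asAlgebraHom_single_one, smul_eq_zero] at havg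
  exact havg.resolve_left (by simp)

/-- A representation of degree at least two with trivial action is reducible. -/
theorem exists_ne_one {G : Type*} [Group G] (ρ : Representation ℂ G V) (hirr : ρ.IsIrreducible)
    (hk : 2 ≤ finrank ℂ V) : ∃ g, ρ g ≠ 1 := by
  by_contra h
  simp only [not_exists, not_not] at h
  haveI := hirr
  haveI : Nontrivial V := Module.nontrivial_of_finrank_pos (R := ℂ) (by omega)
  obtain ⟨x, hx⟩ := exists_ne (0 : V)
  let W : Subrepresentation ρ := ⟨ℂ ∙ x, fun g v hv => by rwa [h g]⟩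
  rcases eq_bot_or_eq_top W with hW | hW
  · have : x ∈ (⊥ : Subrepresentation ρ).toSubmodule := hW ▸ Submodule.mem_span_singleton_self x
    exact hx ((Submodule.mem_bot ℂ).1 this)
  · have : (ℂ ∙ x) = (⊤ : Submodule ℂ V) := congrArg Subrepresentation.toSubmodule hW
    have h1 := finrank_span_singleton (K := ℂ) hx
    rw [this, finrank_top] at h1
    omega

end General

variable {K : Type*} [Field K] [CharP K 3] {m : ℕ}

section Finite

variable [Fintype K] (hK : Fintype.card K = 3 ^ (2 * m + 1))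
include hK

theorem natCard_eq : Nat.card K = 3 ^ (2 * m + 1) := by rw [Nat.card_eq_fintype_card, hK]

theorem hasForm : ReeG2Sylow.HasForm K m := by
  intro g hg
  rcases fixed_form (natCard_eq hK) hg with ⟨-, t, a, b, B, e⟩ | ⟨-, t, a, b, B, t', a', b', e⟩
  · exact Or.inl ⟨t, a, b, _, B, e⟩
  · exact Or.inr ⟨t, a, b, _, B, t', a', b', e⟩

theorem card_eq : Nat.card ↥(twistedG2 K (3 ^ m)) =
    Fintype.card K ^ 3 * (Fintype.card K - 1) * (Fintype.card K ^ 3 + 1) := by
  rw [show Nat.card ↥(twistedG2 K (3 ^ m)) = _ from natCard_tw (natCard_eq hK), hK]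
  ring

theorem hG_neg_one_ne : hG (natCard_eq hK) (-1) ≠ (1 : ↥(Tw K m)) := by
  intro h
  have := hG_conj (natCard_eq hK) (m := m) (-1) 1 0 0
  rw [h, one_mul, inv_one, mul_one] at this
  have h1 := (uG_inj this).1
  rw [Units.val_neg, Units.val_one, mul_one] at h1
  exact two_ne (K := K) (by linear_combination h1)

theorem hG_neg_one_sq : hG (natCard_eq hK) (-1) * hG (natCard_eq hK) (-1) = (1 : ↥(Tw K m)) := by
  rw [hG_mul, neg_mul_neg, one_mul, hG_one]

/-- The central involution of the torus inverts the centre of `U`. -/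
theorem neg_one_conj_Z (v : K) : hG (natCard_eq hK) (-1) * uG m 0 0 v *
    (hG (natCard_eq hK) (-1))⁻¹ = (uG m 0 0 (-v) : ↥(Tw K m)) := by
  rw [hG_conj]
  simp [theta_neg, theta_one, pow_succ]

/-- The centre of `U`, as the image of the additive group. -/
def zHom : Multiplicative K →* ↥(Tw K m) where
  toFun v := uG m 0 0 v.toAdd
  map_one' := uG_zero (natCard_eq hK)
  map_mul' a b := (uG_mul_Z (natCard_eq hK) _ _ _ _).symm

/-- The elements `(0, u, v)`. -/
def u1Hom : Multiplicative (K × K) →* ↥(Tw K m) where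
  toFun p := uG m 0 p.toAdd.1 p.toAdd.2
  map_one' := uG_zero (natCard_eq hK)
  map_mul' a b := (uG_mul_U1 (natCard_eq hK) _ _ _ _).symm

/-- The elements `(0, u, 0)`. -/
def yHom : Multiplicative K →* ↥(Tw K m) where
  toFun u := uG m 0 u.toAdd 0
  map_one' := uG_zero (natCard_eq hK)
  map_mul' a b := by rw [uG_mul_U1 (natCard_eq hK), add_zero]; rfl

variable {V : Type*} [AddCommGroup V] [Module ℂ V] [FiniteDimensional ℂ V]
  (ρ : Representation ℂ ↥(Tw K m) V)

theorem sum_zHom : ∑ v : K, ρ.character (uG m 0 0 v) =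
    (Fintype.card K : ℂ) * finrank ℂ (Representation.invariants (ρ.comp (zHom hK))) := by
  have h := sum_char (ρ.comp (zHom hK))
  rw [Fintype.card_multiplicative] at h
  rw [← h]
  exact Fintype.sum_equiv Multiplicative.ofAdd _ _ fun v => rfl

theorem sum_u1Hom : ∑ u : K, ∑ v : K, ρ.character (uG m 0 u v) =
    (Fintype.card K : ℂ) ^ 2 * finrank ℂ (Representation.invariants (ρ.comp (u1Hom hK))) := by
  have h := sum_char (ρ.comp (u1Hom hK))
  rw [Fintype.card_multiplicative, Fintype.card_prod, Nat.cast_mul, ← pow_two] at h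
  rw [← h, ← Fintype.sum_prod_type']
  exact Fintype.sum_equiv Multiplicative.ofAdd _ _ fun v => rfl

theorem sum_yHom : ∑ u : K, ρ.character (uG m 0 u 0) =
    (Fintype.card K : ℂ) * finrank ℂ (Representation.invariants (ρ.comp (yHom hK))) := by
  have h := sum_char (ρ.comp (yHom hK))
  rw [Fintype.card_multiplicative] at h
  rw [← h]
  exact Fintype.sum_equiv Multiplicative.ofAdd _ _ fun v => rfl

theorem char_Z {v : K} (hv : v ≠ 0) :
    ρ.character (uG m 0 0 v) = ρ.character (uG m 0 0 1) := by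
  obtain ⟨B, hB⟩ := exists_hG_conj_Z (natCard_eq hK) (m := m) one_ne_zero hv
  rw [← hB, Representation.char_conj]

theorem char_U1 {u : K} (hu : u ≠ 0) (v : K) :
    ρ.character (uG m 0 u v) = ρ.character (uG m 0 u 0) := by
  have h := uG_conj_t (natCard_eq hK) (m := m) (v / u) u 0
  rw [zero_add, div_mul_cancel₀ _ hu] at h
  rw [← h, Representation.char_conj]

/-- Without fixed vectors of `Z`, involutions have trace zero and so `8` divides the degree. -/
theorem eight_dvd (hm : 1 ≤ m)
    (h0 : finrank ℂ (Representation.invariants (ρ.comp (zHom hK))) = 0) :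
    8 ∣ finrank ℂ V := by
  classical
  haveI : Finite ↥(Tw K m) := ReeG2Sylow.finite_twisted
  haveI : Fact (Nat.Prime 2) := ⟨Nat.prime_two⟩
  set hN := natCard_eq hK
  set a : ↥(Tw K m) := hG hN (-1) with ha
  have hav : ∀ v : K, ρ.character (a * uG m 0 0 v) = ρ.character a := by
    intro v
    have key : a * uG m 0 0 v = uG m 0 0 v * a * (uG m 0 0 v)⁻¹ := by
      rw [eq_mul_inv_iff_mul_eq, mul_assoc, uG_mul_Z hN]
      have h := neg_one_conj_Z hK (m := m) (v + v)
      rw [mul_inv_eq_iff_eq_mul] at h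
      rw [ha, h, show -(v + v) = v by linear_combination -v * three_eq (K := K)]
    rw [key, Representation.char_conj]
  have hzero : ρ.character a = 0 := by
    have hs := sum_eq_zero (ρ.comp (zHom hK)) h0
    have h2 : ∑ v : K, ρ.character (a * uG m 0 0 v) = 0 := by
      simp only [Representation.character, map_mul]
      rw [← map_sum, ← Finset.mul_sum, show (∑ v : K, ρ (uG m 0 0 v)) = 0 from
        (Fintype.sum_equiv Multiplicative.ofAdd (fun v : K => ρ (uG m 0 0 v)) _ fun v => rfl).trans hs,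
        mul_zero, map_zero]
    rw [Finset.sum_congr rfl fun v _ => hav v, Finset.sum_const, nsmul_eq_mul] at h2
    exact (mul_eq_zero.1 h2).resolve_left (Nat.cast_ne_zero.2 (by simp))
  have hperf := perfect hN hm
  obtain ⟨S⟩ : Nonempty (Sylow 2 ↥(Tw K m)) := inferInstance
  obtain ⟨h8, hsq⟩ := ReeG2Sylow.sylow_two hK (hasForm hK) (card_eq hK) S
  obtain ⟨Φ⟩ := ReeG2Sylow.centralizer_aT_equiv hN (hasForm hK)
  obtain ⟨-, -, hall⟩ := ReeG2Sylow.main hperf S h8 hsq (ReeG2Sylow.card_mod_eight hK)
    (ReeG2Sylow.aT_ne_one (K := K) (m := m)) ReeG2Sylow.aT_mul_self Φ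
  let σ : Representation ℂ (S : Subgroup ↥(Tw K m)) V := ρ.comp (S : Subgroup ↥(Tw K m)).subtype
  haveI : Fintype (S : Subgroup ↥(Tw K m)) := Fintype.ofFinite _
  have hsum := sum_char σ
  rw [Fintype.sum_eq_single (1 : (S : Subgroup ↥(Tw K m))) fun s hs => ?_, Representation.char_one,
    ← Nat.card_eq_fintype_card, show Nat.card (S : Subgroup ↥(Tw K m)) = 8 from h8] at hsum
  · exact ⟨_, by exact_mod_cast hsum⟩
  · show ρ.character (s : ↥(Tw K m)) = 0
    obtain ⟨g, hg⟩ := isConj_iff.1 (hall a (s : ↥(Tw K m)) (hG_neg_one_ne hK) (hG_neg_one_sq hK)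
      (fun h => hs (Subtype.ext h)) (hsq _ s.2))
    rw [← hg, Representation.char_conj, hzero]

/-- The bound. -/
theorem degree_bound (hm : 1 ≤ m) (hirr : ρ.IsIrreducible) (hk : 2 ≤ finrank ℂ V) :
    (3 ^ (2 * m + 1)) ^ 2 - 3 ^ (2 * m + 1) + 1 ≤ finrank ℂ V := by
  classical
  haveI : Finite ↥(Tw K m) := ReeG2Sylow.finite_twisted
  have hN := natCard_eq hK
  have h27 : 27 ≤ 3 ^ (2 * m + 1) := hN ▸ card_gt_three hN hm
  have hmod : 3 ^ (2 * m + 1) % 8 = 3 := hK ▸ ReeG2Sylow.card_mod_eight hK
  generalize hq : 3 ^ (2 * m + 1) = q at h27 hmod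
  rw [hq] at hK
  set k := finrank ℂ V with hkdef
  set d0 := finrank ℂ (Representation.invariants (ρ.comp (zHom (hK.trans hq.symm)))) with hd0
  set c := finrank ℂ (Representation.invariants (ρ.comp (u1Hom (hK.trans hq.symm)))) with hc
  set n1 := finrank ℂ (Representation.invariants (ρ.comp (yHom (hK.trans hq.symm)))) with hn1
  set s := ρ.character (uG m 0 0 (1 : K)) with hs
  set R := ∑ u ∈ Finset.univ.erase (0 : K), ρ.character (uG m 0 u 0) with hR
  have h1 : ρ.character (uG m 0 0 (0 : K)) = k := by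
    rw [uG_zero hN, Representation.char_one]
  have hZsum : (k : ℂ) + ((q : ℂ) - 1) * s = q * d0 := by
    have h := sum_zHom (hK.trans hq.symm) ρ
    rw [← hd0, hK, ← Finset.add_sum_erase _ _ (Finset.mem_univ (0 : K)), h1,
      Finset.sum_congr rfl (fun v hv => char_Z (hK.trans hq.symm) ρ (Finset.ne_of_mem_erase hv)),
      Finset.sum_const, nsmul_eq_mul, Finset.card_erase_of_mem (Finset.mem_univ _),
      Finset.card_univ, hK, Nat.cast_sub (by omega), Nat.cast_one, ← hs] at h
    exact h
  have hY : (k : ℂ) + R = q * n1 := by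
    have h := sum_yHom (hK.trans hq.symm) ρ
    rw [← hn1, hK, ← Finset.add_sum_erase _ _ (Finset.mem_univ (0 : K)), h1] at h
    exact h
  have hU : (q : ℂ) * d0 + q * R = (q : ℂ) ^ 2 * c := by
    have h := sum_u1Hom (hK.trans hq.symm) ρ
    rw [← hc, hK, ← Finset.add_sum_erase _ _ (Finset.mem_univ (0 : K)), sum_zHom (hK.trans hq.symm) ρ,
      ← hd0, hK] at h
    rw [← h, hR, Finset.mul_sum]
    refine congrArg _ (Finset.sum_congr rfl fun u hu => ?_)
    rw [Finset.sum_congr rfl (fun v _ => char_U1 (hK.trans hq.symm) ρ (Finset.ne_of_mem_erase hu) v),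
      Finset.sum_const, nsmul_eq_mul, Finset.card_univ, hK]
  obtain ⟨s0, hs0⟩ := PRational.exists_int_of_isIntegral_of_mul
    (Characters.char_isIntegral ρ (uG m 0 0 (1 : K))) (b := q - 1) (by omega)
    (a := (q : ℤ) * d0 - k) (by
      rw [Nat.cast_sub (by omega), Nat.cast_one, ← hs]
      push_cast
      linear_combination hZsum)
  rw [← hs] at hs0
  have hZi : (k : ℤ) + ((q : ℤ) - 1) * s0 = q * d0 := by
    rw [hs0] at hZsum
    exact_mod_cast hZsum
  have hUi : (k : ℤ) - d0 = q * ((n1 : ℤ) - c) := by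
    have hq0 : (q : ℂ) ≠ 0 := Nat.cast_ne_zero.2 (by omega)
    have : (k : ℂ) - d0 = q * ((n1 : ℂ) - c) := by
      refine mul_left_cancel₀ hq0 ?_
      linear_combination (q : ℂ) * hY - hU
    exact_mod_cast this
  have hdvd : ((q : ℤ) * ((q : ℤ) - 1)) ∣ (k : ℤ) - d0 :=
    IsCoprime.mul_dvd ⟨1, -1, by ring⟩ ⟨_, hUi⟩ ⟨(d0 : ℤ) - s0, by linear_combination hZi⟩
  have hd0k : d0 < k := by
    refine lt_of_le_of_ne (Submodule.finrank_le _) fun h => ?_
    have htop := Submodule.eq_top_of_finrank_eq h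
    have hker : uG m 0 0 (1 : K) ∈ MonoidHom.ker ρ := by
      refine MonoidHom.mem_ker.2 (LinearMap.ext fun x => ?_)
      have hx : x ∈ Representation.invariants (ρ.comp (zHom (hK.trans hq.symm))) := by
        rw [htop]; exact Submodule.mem_top
      exact hx (Multiplicative.ofAdd 1)
    obtain ⟨g, hg⟩ := exists_ne_one ρ hirr hk
    rcases eq_bot_or_top hN hm (MonoidHom.ker ρ) with hb | ht
    · rw [hb, Subgroup.mem_bot] at hker
      exact one_ne_zero (uG_inj (hker.trans (uG_zero hN).symm)).2.2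
    · exact hg (MonoidHom.mem_ker.1 (ht ▸ Subgroup.mem_top g))
  have hle := Int.le_of_dvd (by omega) hdvd
  by_contra hcon
  have hsq : q ≤ q ^ 2 := Nat.le_self_pow two_ne_zero q
  have hub : k ≤ q ^ 2 - q := by omega
  have hub' : (k : ℤ) ≤ (q : ℤ) * ((q : ℤ) - 1) := by
    have : (k : ℤ) + q ≤ (q : ℤ) ^ 2 := by
      exact_mod_cast (show k + q ≤ q ^ 2 by omega)
    linear_combination this
  have hd0' : d0 = 0 := by omega
  have h8 := eight_dvd (hK.trans hq.symm) ρ hm hd0'
  obtain ⟨j, hj⟩ := h8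
  obtain ⟨i, hi⟩ : ∃ i, q = 8 * i + 3 := ⟨q / 8, by omega⟩
  have hkq : (k : ℤ) = (q : ℤ) * ((q : ℤ) - 1) := by omega
  rw [← hkdef] at hj
  have : 8 * (j : ℤ) = 8 * (8 * (i : ℤ) ^ 2 + 5 * i) + 6 := by
    rw [hj, hi] at hkq
    push_cast at hkq
    linear_combination hkq
  omega

end Finite

end CfsgLib.ReeDegree
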