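import Cfsg.Agent.ReeG2.Group

/-!
Coordinates on the positive unipotent and diagonal parts of the small Ree group `²G₂(q)`: the
conjugation action of the torus and the few products needed below.
-/

set_option autoImplicit false
set_option linter.unusedSectionVars false

namespace CfsgLib.ReeDegree

open Cfsg.Lie CfsgLib.Chevalley CfsgLib.ReeG2

variable {K : Type*} [Field K] [CharP K 3] {m : ℕ}

/-- `tail` moved by a torus element. -/
theorem hh_conj_uElt (A B : Kˣ) (a b c d e f : K) :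
    hh A B * uElt a b c d e f * (hh A B)⁻¹ =
      uElt ((A : K) * a) ((B : K) * b) ((A : K) * B * c) ((A : K) ^ 2 * B * d) ((A : K) ^ 3 * B * e)
        ((A : K) ^ 3 * (B : K) ^ 2 * f) := by
  obtain ⟨h7, h6, h8, h9, h10, h11⟩ := chi_table A B
  have hc : ∀ p q x y z w : ↥(GG K), hh A B * (p * q * (x * y * z * w)) * (hh A B)⁻¹ =
      (hh A B * p * (hh A B)⁻¹) * (hh A B * q * (hh A B)⁻¹) * ((hh A B * x * (hh A B)⁻¹) *
        (hh A B * y * (hh A B)⁻¹) * (hh A B * z * (hh A B)⁻¹) *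
        (hh A B * w * (hh A B)⁻¹)) := fun p q x y z w => by group
  simp only [uElt, tail]
  rw [hc]
  simp only [hh_conj]
  rw [h7, h6, h8, h9, h10, h11]
  simp only [Units.val_mul, Units.val_pow_eq_pow_val]

theorem nu_wordU_mem_neg (m : ℕ) (t u v : K) :
    ((nu K (wordU m t u v) : ↥(GG K)) : GL I K) ∈ chevG2.negUnipotent K := by
  have h : ∀ (r : R0) (x : K), 6 ≤ (r : ℕ) →
      ((nu K (xG r x) : ↥(GG K)) : GL I K) ∈ chevG2.negUnipotent K := fun r x hr => by
    rw [nu_xG]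
    refine X_mem_neg good_chevG2 ?_ _
    have h2 : half chevG2 = 6 := by decide +kernel
    rw [h2]
    show ((r.rev : R0) : ℕ) < 6
    rw [Fin.val_rev]
    show 12 - ((r : ℕ) + 1) < 6
    omega
  simp only [wordU, uElt, tail, map_mul, Subgroup.coe_mul]
  exact mul_mem (mul_mem (h _ _ (by decide)) (h _ _ (by decide)))
    (mul_mem (mul_mem (mul_mem (h _ _ (by decide)) (h _ _ (by decide))) (h _ _ (by decide)))
      (h _ _ (by decide)))

section Finite

variable [Finite K] (hK : Nat.card K = 3 ^ (2 * m + 1))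
include hK

theorem hh_conj_wordU (B : Kˣ) (t u v : K) :
    hh (B ^ 3 ^ m) B * wordU m t u v * (hh (B ^ 3 ^ m) B)⁻¹ =
      wordU m ((B : K) * t) (theta m (B : K) ^ 3 * B * u)
        (theta m (B : K) ^ 3 * (B : K) ^ 2 * v) := by
  have hA : ((B ^ 3 ^ m : Kˣ) : K) = theta m (B : K) := Units.val_pow_eq_pow_val _ _
  rw [wordU, wordU, hh_conj_uElt, hA]
  congr 1
  · rw [theta_mul]
  · simp only [theta_mul, theta_pow, theta_theta hK]
    ring
  · simp only [theta_mul, theta_pow, theta_theta hK]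
    ring

/-- The unipotent element with the given coordinates. -/
def uG (m : ℕ) (t u v : K) : ↥(Tw K m) :=
  ⟨((wordU m t u v : ↥(GG K)) : GL I K), wordU_mem_tw m t u v⟩

/-- The torus element with the given value. -/
def hG (B : Kˣ) : ↥(Tw K m) :=
  ⟨((hh (B ^ 3 ^ m) B : ↥(GG K)) : GL I K), hh_mem_tw hK B⟩

omit hK in
/-- The reflection. -/
def wG (m : ℕ) : ↥(Tw K m) := ⟨((nn m (1 : Kˣ) : ↥(GG K)) : GL I K), nn_mem_tw m 1⟩

theorem uG_mul (t u v t' u' v' : K) :
    uG m t u v * uG m t' u' v' = uG m (t + t') (u + u' - theta m t' ^ 3 * t)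
      (v + v' - t' * u + theta m t' ^ 3 * (t * t' - t ^ 2)) :=
  Subtype.ext (by
    show ((wordU m t u v * wordU m t' u' v' : ↥(GG K)) : GL I K) = _
    rw [wordU_mul hK]
    rfl)

omit hK in
theorem uG_inj {t u v t' u' v' : K} (h : uG m t u v = uG m t' u' v') :
    t = t' ∧ u = u' ∧ v = v' :=
  wordU_inj (Subtype.ext (congrArg (fun x : ↥(Tw K m) => (x : GL I K)) h))

theorem uG_zero : uG m (0 : K) 0 0 = 1 := by
  have h := uG_mul hK 0 0 0 0 0 (0 : K)
  simp only [theta_zero, ne_eq, OfNat.ofNat_ne_zero, not_false_eq_true, zero_pow, add_zero,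
    mul_zero, sub_self] at h
  exact mul_eq_left.1 h

theorem uG_mul_Z (t u v w : K) : uG m t u v * uG m 0 0 w = uG m t u (v + w) := by
  rw [uG_mul hK]
  simp [theta_zero]

theorem Z_mul_uG (t u v w : K) : uG m 0 0 w * uG m t u v = uG m t u (w + v) := by
  rw [uG_mul hK]
  simp

theorem uG_mul_U1 (u v u' v' : K) :
    uG m 0 u v * uG m 0 u' v' = uG m 0 (u + u') (v + v') := by
  rw [uG_mul hK]
  simp [theta_zero]

theorem uG_conj_t (t u v : K) :
    uG m t 0 0 * uG m 0 u v * (uG m t 0 0)⁻¹ = uG m 0 u (v + t * u) := by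
  rw [mul_inv_eq_iff_eq_mul, uG_mul hK, uG_mul hK]
  simp [theta_zero]

theorem hG_conj (B : Kˣ) (t u v : K) :
    hG hK B * uG m t u v * (hG hK B)⁻¹ =
      uG m ((B : K) * t) (theta m (B : K) ^ 3 * B * u)
        (theta m (B : K) ^ 3 * (B : K) ^ 2 * v) :=
  Subtype.ext (congrArg (fun x : ↥(GG K) => (x : GL I K)) (hh_conj_wordU hK B t u v))

theorem hG_mul (A B : Kˣ) : hG hK A * hG hK B = hG hK (A * B) :=
  Subtype.ext (by
    show ((hh (A ^ 3 ^ m) A * hh (B ^ 3 ^ m) B : ↥(GG K)) : GL I K) = _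
    rw [hh_mul, ← mul_pow]
    rfl)

theorem hG_one : hG hK (1 : Kˣ) = 1 :=
  Subtype.ext (by
    show ((hh ((1 : Kˣ) ^ 3 ^ m) 1 : ↥(GG K)) : GL I K) = 1
    rw [one_pow, hh_one]
    rfl)

/-- `hG` as a homomorphism. -/
def hHom : Kˣ →* ↥(Tw K m) where
  toFun := hG hK
  map_one' := hG_one hK
  map_mul' A B := (hG_mul hK A B).symm

/-- Every element is `u h` or `u h w u'`. -/
theorem form (g : ↥(Tw K m)) :
    ((g : GL I K) ∈ chevG2.borelSubgroup K ∧
        ∃ t a b : K, ∃ B : Kˣ, g = uG m t a b * hG hK B) ∨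
      ∃ t a b : K, ∃ B : Kˣ, ∃ t' a' b' : K,
        g = uG m t a b * hG hK B * wG m * uG m t' a' b' := by
  rcases tw_form hK g.2 with ⟨h, t, a, b, B, e⟩ | ⟨-, t, a, b, B, t', a', b', e⟩
  · exact Or.inl ⟨h, t, a, b, B, Subtype.ext e⟩
  · exact Or.inr ⟨t, a, b, B, t', a', b', Subtype.ext e⟩

/-- `B ↦ θ(B)³ B²`. -/
def cHom (m : ℕ) : Kˣ →* Kˣ where
  toFun B := (B ^ 3 ^ m) ^ 3 * B ^ 2
  map_one' := by simp
  map_mul' A B := by rw [mul_pow, mul_pow, mul_pow, mul_mul_mul_comm]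

theorem theta_theta_units (B : Kˣ) : ((B ^ 3 ^ m) ^ 3 ^ m) ^ 3 = B := by
  refine Units.ext ?_
  simp only [Units.val_pow_eq_pow_val]
  exact theta_theta hK (B : K)

theorem cHom_bijective : Function.Bijective (cHom (K := K) m) := by
  have hinj : Function.Injective (cHom (K := K) m) := by
    rw [injective_iff_map_eq_one]
    intro B hB
    change (B ^ 3 ^ m) ^ 3 * B ^ 2 = 1 at hB
    set A := B ^ 3 ^ m
    have hθ : (A ^ 3 * B ^ 2) ^ 3 ^ m = B * A ^ 2 := by
      rw [mul_pow, ← pow_mul A, mul_comm 3, pow_mul, theta_theta_units hK, ← pow_mul B, mul_comm 2,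
        pow_mul]
    rw [hB, one_pow] at hθ
    -- `A ^ 3 B ^ 2 = 1` and `B A ^ 2 = 1`
    have h2 : B⁻¹ = A ^ 2 := inv_eq_of_mul_eq_one_right hθ.symm
    have h3 : A ^ 3 = (B ^ 2)⁻¹ := eq_inv_of_mul_eq_one_left hB
    have h6 : (B⁻¹) ^ 3 = ((B ^ 2)⁻¹) ^ 2 := by
      rw [h2, ← h3, pow_right_comm]
    rw [inv_pow, inv_pow, ← pow_mul, inv_inj] at h6
    exact mul_left_cancel (a := B ^ 3) (by rw [mul_one, ← pow_succ]; exact h6.symm)
  exact (Finite.injective_iff_bijective).1 hinj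

/-- The torus is transitive on the non-trivial elements of the centre of `U`. -/
theorem exists_hG_conj_Z {v w : K} (hv : v ≠ 0) (hw : w ≠ 0) :
    ∃ B : Kˣ, hG hK B * uG m 0 0 v * (hG hK B)⁻¹ = uG m 0 0 w := by
  obtain ⟨B, hB⟩ := (cHom_bijective hK).2 (Units.mk0 (w / v) (div_ne_zero hw hv))
  refine ⟨B, ?_⟩
  rw [hG_conj]
  have h : theta m (B : K) ^ 3 * (B : K) ^ 2 = w / v := by
    have := congrArg Units.val hB
    simpa [cHom, theta] using this
  rw [h, div_mul_cancel₀ _ hv]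
  simp

theorem card_gt_three (hm : 1 ≤ m) : 27 ≤ Nat.card K := by
  rw [hK]
  calc 27 = 3 ^ 3 := by norm_num
    _ ≤ 3 ^ (2 * m + 1) := Nat.pow_le_pow_right (by norm_num) (by omega)

theorem exists_u_scale_ne_one (hm : 1 ≤ m) :
    ∃ B : Kˣ, theta m (B : K) ^ 3 * B ≠ 1 := by
  classical
  have := Fintype.ofFinite K
  by_contra hcon
  simp only [ne_eq, not_exists, not_not] at hcon
  have key : ∀ x : K, x = 0 ∨ x = 1 ∨ x = -1 := by
    intro x
    by_cases hx : x = 0
    · exact Or.inl hx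
    refine Or.inr ?_
    have h1 := hcon (Units.mk0 x hx)
    rw [Units.val_mk0] at h1
    -- apply `θ`
    have h2 := congrArg (theta m) h1
    rw [theta_mul, theta_pow, theta_theta hK, theta_one] at h2
    have hθ : theta m x = x⁻¹ := eq_inv_of_mul_eq_one_right h2
    have h3 := theta_theta hK x
    rw [hθ, theta_inv, hθ, inv_inv] at h3
    have h4 : x * ((x - 1) * (x + 1)) = 0 := by linear_combination h3
    rcases mul_eq_zero.1 ((mul_eq_zero.1 h4).resolve_left hx) with h | h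
    · exact Or.inl (sub_eq_zero.1 h)
    · exact Or.inr (eq_neg_of_add_eq_zero_left h)
  have hcard : Fintype.card K ≤ 3 := by
    have hsub : (Finset.univ : Finset K) ⊆ {0, 1, -1} := fun x _ => by
      rcases key x with h | h | h <;> simp [h]
    exact (Finset.card_le_card hsub).trans Finset.card_le_three
  have := card_gt_three hK hm
  rw [Nat.card_eq_fintype_card] at this
  omega

end Finite

end CfsgLib.ReeDegree
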